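import Cfsg.Agent.H756.PU.Engine
import Cfsg.Agent.H765.D3.Sub

/-!
# S5261, part E: the essential subgroups of a saturated fusion system over `Sy φ` are `Q1`, `Q2`

Exact statements. `Γ` is `Aut_F(E)`; only the structure `Ess` of `H756.PU.Engine` is used. Paper proofs:
`outputs/live/tools/plans/S5261.md`.
-/

set_option autoImplicit false
set_option linter.unusedSectionVars false

namespace Cfsg.Agent.H802.TE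

open Cfsg Cfsg.FusionSystem Cfsg.Agent.H756.PU
open Cfsg.Agent.H765.D3 Cfsg.Agent.H765.D3.Sy
open Cfsg.Agent.Hex.Defs (sh cr nm tr)

universe u

/-! ### Engine -/

section Engine

/-- `Φ(E)` as a subgroup of the ambient group -/
def Phi {Ω : Type*} [Group Ω] (E : Subgroup Ω) : Subgroup Ω := (frattini E).map E.subtype

/-- (F) elementary facts on `Φ(E)` for a finite `p`-group `E`: `E/Φ(E)` is elementary abelian, `Φ(E)` is the least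
such subgroup, it is invariant under every automorphism of `E`, and normalized by whatever normalizes `E`. -/
def StPhi : Prop :=
  ∀ {Ω : Type u} [Group Ω] (E : Subgroup Ω) (p : ℕ), p.Prime → Finite E → IsPGroup p E →
    Phi E ≤ E ∧ Com E E (Phi E) ∧ (∀ x ∈ E, x ^ p ∈ Phi E) ∧
    (∀ N : Subgroup Ω, N ≤ E → Com E E N → (∀ x ∈ E, x ^ p ∈ N) → Phi E ≤ N) ∧
    (∀ Γ : Subgroup (MulAut E), Inv Γ (Phi E)) ∧
    (∀ x : Ω, x ∈ Subgroup.normalizer (E : Set Ω) → ∀ y ∈ Phi E, x * y * x⁻¹ ∈ Phi E)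

/-- (P2) `V = E/Φ(E)`: `|A|² ≤ |[V,A]| |[V,B]|` for `p`-subgroups `A`, `B ≠ 1` of `Out_S(E)`. `W` (`W'`) is any subgroup
of `E` containing all `[a, e]`, `Y ≤ Φ(E)`. -/
def StP2 : Prop :=
  ∀ {Ω : Type u} [Group Ω] {S E : Subgroup Ω} {p : ℕ} {Γ : Subgroup (MulAut E)}, Ess S E p Γ →
    ∀ A B W W' Y Y' : Subgroup Ω, A ≤ normalizerIn S E → B ≤ normalizerIn S E → ¬ B ≤ E → W ≤ E → W' ≤ E →
    Com A E W → Com B E W' → Y ≤ Phi E → Y' ≤ Phi E →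
    (E.relIndex A) ^ 2 ≤ Y.relIndex W * Y'.relIndex W'

/-- (P2c) the same with `B = ⟨b⟩` cyclic, where `|[V,b]| = |V : C_V(b)|`: `X ≤ E` satisfies `[b, X] ≤ Φ(E)`. -/
def StP2c : Prop :=
  ∀ {Ω : Type u} [Group Ω] {S E : Subgroup Ω} {p : ℕ} {Γ : Subgroup (MulAut E)}, Ess S E p Γ →
    ∀ (A W Y X : Subgroup Ω) (b : Ω), A ≤ normalizerIn S E → b ∈ normalizerIn S E → b ∉ E → W ≤ E →
    Com A E W → Y ≤ Phi E → X ≤ E → (∀ x ∈ X, b * x * b⁻¹ * x⁻¹ ∈ Phi E) →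
    (E.relIndex A) ^ 2 ≤ Y.relIndex W * X.relIndex E

/-- (P2w) the dual version: `|A|² ≤ |V : C_V(A)| |V : C_V(B)|`. -/
def StP2w : Prop :=
  ∀ {Ω : Type u} [Group Ω] {S E : Subgroup Ω} {p : ℕ} {Γ : Subgroup (MulAut E)}, Ess S E p Γ →
    ∀ A B X X' : Subgroup Ω, A ≤ normalizerIn S E → B ≤ normalizerIn S E → ¬ B ≤ E → X ≤ E → X' ≤ E →
    Com A X (Phi E) → Com B X' (Phi E) → (E.relIndex A) ^ 2 ≤ X.relIndex E * X'.relIndex E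

/-- (BD) `|A|² ≤ |V|` (S3083) -/
def StBd : Prop :=
  ∀ {Ω : Type u} [Group Ω] {S E : Subgroup Ω} {p : ℕ} {Γ : Subgroup (MulAut E)}, Ess S E p Γ →
    ∀ A Y : Subgroup Ω, A ≤ normalizerIn S E → Y ≤ Phi E → (E.relIndex A) ^ 2 ≤ Y.relIndex E

/-- (CH) chains of invariant subgroups from `E` down to a subgroup of `Φ(E)` -/
def StCh : Prop :=
  ∀ {Ω : Type u} [Group Ω] {S E : Subgroup Ω} {p : ℕ} {Γ : Subgroup (MulAut E)}, Ess S E p Γ →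
    ∀ (n : ℕ) (M : ℕ → Subgroup Ω), M 0 ≤ Phi E → M n = E → (∀ i ≤ n, Inv Γ (M i)) →
    (∀ i < n, M i ≤ M (i + 1)) → ∀ A : Subgroup Ω, A ≤ S → (∀ i < n, Com A (M (i + 1)) (M i)) → A ≤ E

/-- (HULL) if `[A, E] ≤ Y ≤ E` and `A ≰ E` then `[A, γ(y)] ≰ Φ(E)` for some `γ ∈ Γ`, `y ∈ Y`. -/
def StHull : Prop :=
  ∀ {Ω : Type u} [Group Ω] {S E : Subgroup Ω} {p : ℕ} {Γ : Subgroup (MulAut E)}, Ess S E p Γ →
    ∀ A Y : Subgroup Ω, A ≤ S → Y ≤ E → Com A E Y → ¬ A ≤ E →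
    ∃ γ ∈ Γ, ∃ y : E, (y : Ω) ∈ Y ∧ ∃ a ∈ A, a * (γ y : E) * a⁻¹ * ((γ y : E) : Ω)⁻¹ ∉ Phi E

/-- (L) `L = O^{p'}(Γ)`: again `Ess`, and it acts trivially on each invariant section on which `N_S(E)` is trivial. -/
def StL : Prop :=
  ∀ {Ω : Type u} [Group Ω] {S E : Subgroup Ω} {p : ℕ} {Γ : Subgroup (MulAut E)}, Ess S E p Γ →
    ∃ L : Subgroup (MulAut E), L ≤ Γ ∧ Ess S E p L ∧
      ∀ N M : Subgroup Ω, Inv L N → Inv L M → N ≤ M → (∀ m ∈ M, ∀ n ∈ N, m * n * m⁻¹ ∈ N) →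
        Com (normalizerIn S E) M N → ∀ γ ∈ L, ∀ m : E, (m : Ω) ∈ M → ((γ m : E) : Ω) * (m : Ω)⁻¹ ∈ N

/-- (CJ) conjugation by an element of `S` -/
def StConj : Prop :=
  ∀ {Ω : Type u} [Group Ω] {S E : Subgroup Ω} {p : ℕ} {Γ : Subgroup (MulAut E)}, Ess S E p Γ →
    ∀ g ∈ S, ∃ Γ' : Subgroup (MulAut (E.map (MulAut.conj g).toMonoidHom)),
      Ess S (E.map (MulAut.conj g).toMonoidHom) p Γ'

/-- (CM) the commuting lemma modulo `Inn(E)` -/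
def StCm : Prop :=
  ∀ {Ω : Type u} [Group Ω] {S E : Subgroup Ω} {p : ℕ} {Γ : Subgroup (MulAut E)}, Ess S E p Γ →
    ∀ (Γ0 : Subgroup (MulAut E)) (A : Subgroup Ω), A ≤ normalizerIn S E → ¬ A ≤ E →
    (∀ g ∈ Γ, g ∉ Γ0 → ∀ a ∈ A, ∀ b ∈ A, ∀ e : E, ∀ α β : MulAut E, IsC a α → IsC b β →
      (((α * (g * β * g⁻¹) * α⁻¹ * (g * β * g⁻¹)⁻¹) e : E) : Ω) * (e : Ω)⁻¹ ∈ Phi E) → Γ ≤ Γ0

/-- (SEC) the inequality (P2) on an invariant elementary abelian section `M/N`, central in `E/N`, on which `Out_S(E)` is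
faithful; some `A0/A0∩E` is elementary abelian of rank at least two. Commutator form. -/
def StSecC : Prop :=
  ∀ {Ω : Type u} [Group Ω] {S E : Subgroup Ω} {p : ℕ} {Γ : Subgroup (MulAut E)}, Ess S E p Γ →
    ∀ N M A0 A B W W' : Subgroup Ω, Inv Γ N → Inv Γ M → N ≤ M → Com E M N → (∀ m ∈ M, m ^ p ∈ N) →
    (∀ x ∈ normalizerIn S E, (∀ m ∈ M, x * m * x⁻¹ * m⁻¹ ∈ N) → x ∈ E) →
    A0 ≤ normalizerIn S E → Com A0 A0 E → (∀ x ∈ A0, x ^ p ∈ E) → p < E.relIndex A0 →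
    A ≤ normalizerIn S E → B ≤ normalizerIn S E → ¬ B ≤ E → W ≤ M → W' ≤ M → Com A M W → Com B M W' →
    (E.relIndex A) ^ 2 ≤ N.relIndex W * N.relIndex W'

/-- (SEC) centralizer form -/
def StSecW : Prop :=
  ∀ {Ω : Type u} [Group Ω] {S E : Subgroup Ω} {p : ℕ} {Γ : Subgroup (MulAut E)}, Ess S E p Γ →
    ∀ N M A0 A B X X' : Subgroup Ω, Inv Γ N → Inv Γ M → N ≤ M → Com E M N → (∀ m ∈ M, m ^ p ∈ N) →
    (∀ x ∈ normalizerIn S E, (∀ m ∈ M, x * m * x⁻¹ * m⁻¹ ∈ N) → x ∈ E) →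
    A0 ≤ normalizerIn S E → Com A0 A0 E → (∀ x ∈ A0, x ^ p ∈ E) → p < E.relIndex A0 →
    A ≤ normalizerIn S E → B ≤ normalizerIn S E → ¬ B ≤ E → X ≤ M → X' ≤ M → Com A X N → Com B X' N →
    (E.relIndex A) ^ 2 ≤ X.relIndex M * X'.relIndex M

/-- the engine -/
structure Eng : Prop where
  phi : StPhi.{u}
  p2 : StP2.{u}
  p2c : StP2c.{u}
  p2w : StP2w.{u}
  bd : StBd.{u}
  ch : StCh.{u}
  hull : StHull.{u}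
  l : StL.{u}
  cj : StConj.{u}
  cm : StCm.{u}
  secC : StSecC.{u}
  secW : StSecW.{u}

end Engine

/-! ### The group `Sy φ` -/

section Sy

variable {F K : Type u} [Field F] [Field K] [Algebra F K]

/-- `R = U1 U3 U2 U4` -/
def R (φ : K ≃ₐ[F] K) [Cub φ] : Subgroup (Sy φ) where
  carrier := {x | x.x6 = 0 ∧ x.x5 = 0}
  one_mem' := ⟨rfl, rfl⟩
  mul_mem' {x y} hx hy := by
    simp only [Set.mem_ofPred_eq] at hx hy ⊢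
    rw [mul_x6, mul_x5, hx.1, hx.2, hy.1, hy.2]
    simp
  inv_mem' {x} hx := by
    simp only [Set.mem_ofPred_eq] at hx ⊢
    rw [inv_x6, inv_x5, hx.1, hx.2]
    simp

/-- `Cs s = {x ∈ Q2 | Tr(s x1) = Tr(s x5) = 0}` -/
def Cs (φ : K ≃ₐ[F] K) [Cub φ] (s : K) : Subgroup (Sy φ) where
  carrier := {x | x.x6 = 0 ∧ tr φ (s * x.x1) = 0 ∧ tr φ (s * x.x5) = 0}
  one_mem' := ⟨rfl, by simp [tr_zero], by simp [tr_zero]⟩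
  mul_mem' {x y} hx hy := by
    simp only [Set.mem_ofPred_eq] at hx hy ⊢
    rw [mul_x6, mul_x5, mul_x1, hx.1, hy.1, zero_smul, add_zero, add_zero, mul_add, mul_add, tr_add, tr_add, hx.2.1,
      hx.2.2, hy.2.1, hy.2.2]
    simp only [add_zero, and_self]
  inv_mem' {x} hx := by
    simp only [Set.mem_ofPred_eq] at hx ⊢
    rw [inv_x6, inv_x5, inv_x1, hx.1, zero_smul, add_zero, mul_neg, mul_neg, tr_neg, tr_neg, hx.2.1, hx.2.2]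
    simp

theorem mem_R {φ : K ≃ₐ[F] K} [Cub φ] {x : Sy φ} : x ∈ R φ ↔ x.x6 = 0 ∧ x.x5 = 0 := Iff.rfl
theorem mem_Cs {φ : K ≃ₐ[F] K} [Cub φ] {s : K} {x : Sy φ} :
    x ∈ Cs φ s ↔ x.x6 = 0 ∧ tr φ (s * x.x1) = 0 ∧ tr φ (s * x.x5) = 0 := Iff.rfl

/-- `E` lies (modulo `Z3`) in `K ⊗ λ` for a line `λ` of `F²` -/
def Line {φ : K ≃ₐ[F] K} [Cub φ] (E : Subgroup (Sy φ)) : Prop :=
  ∃ l m : F, (l ≠ 0 ∨ m ≠ 0) ∧ ∀ x ∈ E, l • x.x1 + m • x.x5 = 0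

/-- `C = {x ∈ E | x.x1 = 0}` etc. are written `E ⊓ Q1 φ`; the mixed case: -/
def Mixed {φ : K ≃ₐ[F] K} [Cub φ] (E : Subgroup (Sy φ)) : Prop := ¬ E ≤ Q1 φ ∧ ¬ E ≤ Q2 φ

end Sy

/-! ### Statements on essential subgroups of `Sy φ` -/

section Stmts

/-- (E1) -/
def StE1 : Prop :=
  ∀ {F K : Type u} [Field F] [Field K] [Finite F] [Finite K] [Algebra F K] {φ : K ≃ₐ[F] K} [Cub φ] {p : ℕ} [CharP K p]
    {E : Subgroup (Sy φ)} {Γ : Subgroup (MulAut E)}, Ess ⊤ E p Γ → E ≤ Q1 φ → E = Q1 φ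

/-- (E2), `p` odd -/
def StE2o : Prop :=
  ∀ {F K : Type u} [Field F] [Field K] [Finite F] [Finite K] [Algebra F K] {φ : K ≃ₐ[F] K} [Cub φ] {p : ℕ} [CharP K p]
    {E : Subgroup (Sy φ)} {Γ : Subgroup (MulAut E)}, Ess ⊤ E p Γ → p ≠ 2 → Q1 φ ≤ E → E = Q1 φ

/-- (E2), `p = 2`, first step: the image of `E` in `K = S/Q1` is a plane `s^⊥`, or of order at most two -/
def StE2a : Prop :=
  ∀ {F K : Type u} [Field F] [Field K] [Finite F] [Finite K] [Algebra F K] {φ : K ≃ₐ[F] K} [Cub φ] [CharP K 2]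
    {E : Subgroup (Sy φ)} {Γ : Subgroup (MulAut E)}, Ess ⊤ E 2 Γ → Q1 φ ≤ E → E ≠ Q1 φ →
    (∃ s : K, s ≠ 0 ∧ ∀ x : Sy φ, x ∈ E ↔ tr φ (s * x.x1) = 0) ∨
    (∃ a : K, a ≠ 0 ∧ ∀ x : Sy φ, x ∈ E ↔ x.x1 = 0 ∨ x.x1 = a)

/-- (E2), `p = 2`, plane case -/
def StE2b : Prop :=
  ∀ {F K : Type u} [Field F] [Field K] [Finite F] [Finite K] [Algebra F K] {φ : K ≃ₐ[F] K} [Cub φ] [CharP K 2]
    {E : Subgroup (Sy φ)} {Γ : Subgroup (MulAut E)}, Ess ⊤ E 2 Γ →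
    ∀ s : K, s ≠ 0 → (∀ x : Sy φ, x ∈ E ↔ tr φ (s * x.x1) = 0) → False

/-- (E2), `p = 2`, `|E : Q1| = 2` -/
def StE2c : Prop :=
  ∀ {F K : Type u} [Field F] [Field K] [Finite F] [Finite K] [Algebra F K] {φ : K ≃ₐ[F] K} [Cub φ] [CharP K 2]
    {E : Subgroup (Sy φ)} {Γ : Subgroup (MulAut E)}, Ess ⊤ E 2 Γ →
    ∀ a : K, a ≠ 0 → (∀ x : Sy φ, x ∈ E ↔ x.x1 = 0 ∨ x.x1 = a) → False

/-- (R0) -/
def StR0 : Prop :=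
  ∀ {F K : Type u} [Field F] [Field K] [Finite F] [Finite K] [Algebra F K] {φ : K ≃ₐ[F] K} [Cub φ] {p : ℕ} [CharP K p]
    {E : Subgroup (Sy φ)} {Γ : Subgroup (MulAut E)}, Ess ⊤ E p Γ → E ≤ R φ → E = R φ

/-- (R) `R` is not essential, `p` odd -/
def StRo : Prop :=
  ∀ {F K : Type u} [Field F] [Field K] [Finite F] [Finite K] [Algebra F K] {φ : K ≃ₐ[F] K} [Cub φ] {p : ℕ} [CharP K p]
    {Γ : Subgroup (MulAut (R φ))}, Ess ⊤ (R φ) p Γ → p ≠ 2 → False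

/-- (R) `R` is not essential, `p = 2` -/
def StR2 : Prop :=
  ∀ {F K : Type u} [Field F] [Field K] [Finite F] [Finite K] [Algebra F K] {φ : K ≃ₐ[F] K} [Cub φ] [CharP K 2]
    {Γ : Subgroup (MulAut (R φ))}, Ess ⊤ (R φ) 2 Γ → False

/-- (C) `Cs s` is not essential, `p = 2` -/
def StC2 : Prop :=
  ∀ {F K : Type u} [Field F] [Field K] [Finite F] [Finite K] [Algebra F K] {φ : K ≃ₐ[F] K} [Cub φ] [CharP K 2]
    {s : K} {Γ : Subgroup (MulAut (Cs φ s))}, s ≠ 0 → Ess ⊤ (Cs φ s) 2 Γ → False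

/-- (LINE) -/
def StLine : Prop :=
  ∀ {F K : Type u} [Field F] [Field K] [Finite F] [Finite K] [Algebra F K] {φ : K ≃ₐ[F] K} [Cub φ] {p : ℕ} [CharP K p]
    {E : Subgroup (Sy φ)} {Γ : Subgroup (MulAut E)}, Ess ⊤ E p Γ → E ≤ Q2 φ → ¬ Line E

/-- (A) `Z3 ≤ E < Q2`, `p` odd -/
def StAo : Prop :=
  ∀ {F K : Type u} [Field F] [Field K] [Finite F] [Finite K] [Algebra F K] {φ : K ≃ₐ[F] K} [Cub φ] {p : ℕ} [CharP K p]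
    {E : Subgroup (Sy φ)} {Γ : Subgroup (MulAut E)}, Ess ⊤ E p Γ → p ≠ 2 → Z3 φ ≤ E → E ≤ Q2 φ → E ≠ Q2 φ → Line E

/-- (A) `Z3 ≤ E < Q2`, `p = 2` -/
def StA2 : Prop :=
  ∀ {F K : Type u} [Field F] [Field K] [Finite F] [Finite K] [Algebra F K] {φ : K ≃ₐ[F] K} [Cub φ] [CharP K 2]
    {E : Subgroup (Sy φ)} {Γ : Subgroup (MulAut E)}, Ess ⊤ E 2 Γ → Z3 φ ≤ E → E ≤ Q2 φ → E ≠ Q2 φ →
    Line E ∨ ∃ s : K, s ≠ 0 ∧ E = Cs φ s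

/-- (B) `E ≤ Q2`, `p` odd -/
def StBo : Prop :=
  ∀ {F K : Type u} [Field F] [Field K] [Finite F] [Finite K] [Algebra F K] {φ : K ≃ₐ[F] K} [Cub φ] {p : ℕ} [CharP K p]
    {E : Subgroup (Sy φ)} {Γ : Subgroup (MulAut E)}, Ess ⊤ E p Γ → p ≠ 2 → E ≤ Q2 φ → ¬ Line E → Z3 φ ≤ E

/-- (B) `E ≤ Q2`, `p = 2` -/
def StB2 : Prop :=
  ∀ {F K : Type u} [Field F] [Field K] [Finite F] [Finite K] [Algebra F K] {φ : K ≃ₐ[F] K} [Cub φ] [CharP K 2]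
    {E : Subgroup (Sy φ)} {Γ : Subgroup (MulAut E)}, Ess ⊤ E 2 Γ → E ≤ Q2 φ → ¬ Line E → Z3 φ ≤ E

/-- (REG) `p` odd: a regular element is conjugate to `u1 a * u6 u` -/
def StReg : Prop :=
  ∀ {F K : Type u} [Field F] [Field K] [Finite F] [Finite K] [Algebra F K] {φ : K ≃ₐ[F] K} [Cub φ] {p : ℕ} [CharP K p]
    (y : Sy φ), p ≠ 2 → y.x1 ≠ 0 → y.x6 ≠ 0 → ∃ g : Sy φ, g * y * g⁻¹ = u1 φ y.x1 * u6 φ y.x6

/-- (M0) mixed: `Z2 ≤ E` -/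
def StM0o : Prop :=
  ∀ {F K : Type u} [Field F] [Field K] [Finite F] [Finite K] [Algebra F K] {φ : K ≃ₐ[F] K} [Cub φ] {p : ℕ} [CharP K p]
    {E : Subgroup (Sy φ)} {Γ : Subgroup (MulAut E)}, Ess ⊤ E p Γ → p ≠ 2 → Mixed E → Z2 φ ≤ E

def StM02 : Prop :=
  ∀ {F K : Type u} [Field F] [Field K] [Finite F] [Finite K] [Algebra F K] {φ : K ≃ₐ[F] K} [Cub φ] [CharP K 2]
    {E : Subgroup (Sy φ)} {Γ : Subgroup (MulAut E)}, Ess ⊤ E 2 Γ → Mixed E → Z2 φ ≤ E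

/-- (ZC) mixed, `Z2 ≤ E`: elements of order `p` of `Z(E)` lie in `Z3`, and `Z1 ≤ Φ(E)` -/
def StZC : Prop :=
  ∀ {F K : Type u} [Field F] [Field K] [Finite F] [Finite K] [Algebra F K] {φ : K ≃ₐ[F] K} [Cub φ] {p : ℕ} [CharP K p]
    {E : Subgroup (Sy φ)} {Γ : Subgroup (MulAut E)}, Ess ⊤ E p Γ → Mixed E → Z2 φ ≤ E →
    Z1 φ ≤ Phi E ∧ ∀ z ∈ E, (∀ e ∈ E, z * e = e * z) → z ^ p = 1 → z ∈ Z3 φ

/-- (M1) mixed, `Z2 ≤ E`: `Z3 ≤ E` -/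
def StM1o : Prop :=
  ∀ {F K : Type u} [Field F] [Field K] [Finite F] [Finite K] [Algebra F K] {φ : K ≃ₐ[F] K} [Cub φ] {p : ℕ} [CharP K p]
    {E : Subgroup (Sy φ)} {Γ : Subgroup (MulAut E)}, Ess ⊤ E p Γ → p ≠ 2 → Mixed E → Z2 φ ≤ E → Z3 φ ≤ E

def StM12 : Prop :=
  ∀ {F K : Type u} [Field F] [Field K] [Finite F] [Finite K] [Algebra F K] {φ : K ≃ₐ[F] K} [Cub φ] [CharP K 2]
    {E : Subgroup (Sy φ)} {Γ : Subgroup (MulAut E)}, Ess ⊤ E 2 Γ → Mixed E → Z2 φ ≤ E → Z3 φ ≤ E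

/-- (M3) mixed, `Z3 ≤ E`: `Z4 ≤ E`, `p` odd -/
def StM3o : Prop :=
  ∀ {F K : Type u} [Field F] [Field K] [Finite F] [Finite K] [Algebra F K] {φ : K ≃ₐ[F] K} [Cub φ] {p : ℕ} [CharP K p]
    {E : Subgroup (Sy φ)} {Γ : Subgroup (MulAut E)}, Ess ⊤ E p Γ → p ≠ 2 → Mixed E → Z3 φ ≤ E → Z4 φ ≤ E

/-- (M3a), `p = 2`: if `γ ∈ Γ` and `g ∈ Z3` with `[Z4, γ g] ≰ Φ(E)`, then `y = γ g` has `y.x6 = 0`, `y.x1 ≠ 0`, all
`x.x1` (`x ∈ E`) are multiples of `y.x1`, and `γ` leaves `Z1` invariant. -/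
def StM3a : Prop :=
  ∀ {F K : Type u} [Field F] [Field K] [Finite F] [Finite K] [Algebra F K] {φ : K ≃ₐ[F] K} [Cub φ] [CharP K 2]
    {E : Subgroup (Sy φ)} {Γ : Subgroup (MulAut E)}, Ess ⊤ E 2 Γ → Mixed E → Z3 φ ≤ E →
    ∀ γ ∈ Γ, ∀ g : E, (g : Sy φ) ∈ Z3 φ → ∀ z ∈ Z4 φ, z * (γ g : E) * z⁻¹ * ((γ g : E) : Sy φ)⁻¹ ∉ Phi E →
      ((γ g : E) : Sy φ).x6 = 0 ∧ ((γ g : E) : Sy φ).x1 ≠ 0 ∧
      (∀ x ∈ E, ∃ s : F, x.x1 = s • ((γ g : E) : Sy φ).x1) ∧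
      (∀ e : E, (e : Sy φ) ∈ Z1 φ → ((γ e : E) : Sy φ) ∈ Z1 φ)

/-- (M3b), `p = 2`: `Z4 ≰ E` implies that `Z1` is `Γ`-invariant -/
def StM3b : Prop :=
  ∀ {F K : Type u} [Field F] [Field K] [Finite F] [Finite K] [Algebra F K] {φ : K ≃ₐ[F] K} [Cub φ] [CharP K 2]
    {E : Subgroup (Sy φ)} {Γ : Subgroup (MulAut E)}, Ess ⊤ E 2 Γ → Mixed E → Z3 φ ≤ E → ¬ Z4 φ ≤ E → Inv Γ (Z1 φ)

/-- (M3c), `p = 2`: `Z4 ≰ E`: there is `a ≠ 0` with `x.x1 ∈ {0, a}` for all `x ∈ E`, and `y ∈ E` with `y.x1 = a`,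
`y.x6 = 0`. -/
def StM3c : Prop :=
  ∀ {F K : Type u} [Field F] [Field K] [Finite F] [Finite K] [Algebra F K] {φ : K ≃ₐ[F] K} [Cub φ] [CharP K 2]
    {E : Subgroup (Sy φ)} {Γ : Subgroup (MulAut E)}, Ess ⊤ E 2 Γ → Mixed E → Z3 φ ≤ E → ¬ Z4 φ ≤ E →
    ∃ a : K, a ≠ 0 ∧ (∀ x ∈ E, x.x1 = 0 ∨ x.x1 = a) ∧ ∃ y ∈ E, y.x1 = a ∧ y.x6 = 0

/-- (M3d), `p = 2`: the rest of `Z4 ≤ E` -/
def StM3d : Prop :=
  ∀ {F K : Type u} [Field F] [Field K] [Finite F] [Finite K] [Algebra F K] {φ : K ≃ₐ[F] K} [Cub φ] [CharP K 2]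
    {E : Subgroup (Sy φ)} {Γ : Subgroup (MulAut E)}, Ess ⊤ E 2 Γ → Mixed E → Z3 φ ≤ E →
    ∀ a : K, a ≠ 0 → (∀ x ∈ E, x.x1 = 0 ∨ x.x1 = a) → (∃ y ∈ E, y.x1 = a ∧ y.x6 = 0) → Z4 φ ≤ E

/-- (M4a) mixed, `Z4 ≤ E`, the `x1`-coordinates span `K` over `F` -/
def StM4a : Prop :=
  ∀ {F K : Type u} [Field F] [Field K] [Finite F] [Finite K] [Algebra F K] {φ : K ≃ₐ[F] K} [Cub φ] {p : ℕ} [CharP K p]
    {E : Subgroup (Sy φ)} {Γ : Subgroup (MulAut E)}, Ess ⊤ E p Γ → Mixed E → Z4 φ ≤ E →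
    (∀ s : K, (∀ x ∈ E, tr φ (s * x.x1) = 0) → s = 0) → False

/-- (M4b) mixed, `Z4 ≤ E`, the `x1`-coordinates lie in a plane but not in a line -/
def StM4b : Prop :=
  ∀ {F K : Type u} [Field F] [Field K] [Finite F] [Finite K] [Algebra F K] {φ : K ≃ₐ[F] K} [Cub φ] {p : ℕ} [CharP K p]
    {E : Subgroup (Sy φ)} {Γ : Subgroup (MulAut E)}, Ess ⊤ E p Γ → Mixed E → Z4 φ ≤ E →
    (∃ s : K, s ≠ 0 ∧ ∀ x ∈ E, tr φ (s * x.x1) = 0) → (¬ ∃ a : K, ∀ x ∈ E, ∃ t : F, x.x1 = t • a) → Q1 φ ≤ E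

/-- (M4c) mixed, `Z4 ≤ E`, the `x1`-coordinates lie in a line -/
def StM4c : Prop :=
  ∀ {F K : Type u} [Field F] [Field K] [Finite F] [Finite K] [Algebra F K] {φ : K ≃ₐ[F] K} [Cub φ] {p : ℕ} [CharP K p]
    {E : Subgroup (Sy φ)} {Γ : Subgroup (MulAut E)}, Ess ⊤ E p Γ → Mixed E → Z4 φ ≤ E →
    (∃ a : K, ∀ x ∈ E, ∃ t : F, x.x1 = t • a) → Q1 φ ≤ E

/-- part E -/
def StE : Prop :=
  ∀ {F K : Type u} [Field F] [Field K] [Finite F] [Finite K] [Algebra F K] {φ : K ≃ₐ[F] K} [Cub φ] {p : ℕ} [CharP K p]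
    {E : Subgroup (Sy φ)} {Γ : Subgroup (MulAut E)}, Ess ⊤ E p Γ → E = Q1 φ ∨ E = Q2 φ

end Stmts

end Cfsg.Agent.H802.TE
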