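import Cfsg.Agent.H802.TE.Defs

/-!
# S5261, part E: assembly
-/

set_option autoImplicit false

namespace Cfsg.Agent.H802.TE

open Cfsg Cfsg.FusionSystem Cfsg.Agent.H756.PU
open Cfsg.Agent.H765.D3 Cfsg.Agent.H765.D3.Sy
open Cfsg.Agent.Hex.Defs (sh cr nm tr)

universe u

/-- the pieces of part E -/
structure Pieces : Prop where
  e1 : StE1.{u}
  e2o : StE2o.{u}
  e2a : StE2a.{u}
  e2b : StE2b.{u}
  e2c : StE2c.{u}
  c2 : StC2.{u}
  line : StLine.{u}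
  ao : StAo.{u}
  a2 : StA2.{u}
  bo : StBo.{u}
  b2 : StB2.{u}
  m0o : StM0o.{u}
  m02 : StM02.{u}
  m1o : StM1o.{u}
  m12 : StM12.{u}
  m3o : StM3o.{u}
  m3c : StM3c.{u}
  m3d : StM3d.{u}
  m4a : StM4a.{u}
  m4b : StM4b.{u}
  m4c : StM4c.{u}

theorem stE_of (P : Pieces.{u}) : StE.{u} := by
  intro F K _ _ _ _ _ φ _ p _ E Γ h
  by_cases h1 : E ≤ Q1 φ
  · exact Or.inl (P.e1 h h1)
  by_cases h2 : E ≤ Q2 φ
  · by_cases h3 : E = Q2 φ
    · exact Or.inr h3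
    exfalso
    have hl := P.line h h2
    by_cases hp : p = 2
    · subst hp
      rcases P.a2 h (P.b2 h h2 hl) h2 h3 with h4 | ⟨s, hs, h4⟩
      · exact hl h4
      · subst h4
        exact P.c2 hs h
    · exact hl (P.ao h hp (P.bo h hp h2 hl) h2 h3)
  exfalso
  have hm : Mixed E := ⟨h1, h2⟩
  have hz4 : Z4 φ ≤ E := by
    by_cases hp : p = 2
    · subst hp
      have hz3 := P.m12 h hm (P.m02 h hm)
      by_contra hz4
      obtain ⟨a, ha, h5, h6⟩ := P.m3c h hm hz3 hz4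
      exact hz4 (P.m3d h hm hz3 a ha h5 h6)
    · exact P.m3o h hp hm (P.m1o h hp hm (P.m0o h hp hm))
  have hq : Q1 φ ≤ E := by
    by_cases h5 : ∀ s : K, (∀ x ∈ E, tr φ (s * x.x1) = 0) → s = 0
    · exact (P.m4a h hm hz4 h5).elim
    · push Not at h5
      obtain ⟨s, hs, hs0⟩ := h5
      by_cases h6 : ∃ a : K, ∀ x ∈ E, ∃ t : F, x.x1 = t • a
      · exact P.m4c h hm hz4 h6
      · exact P.m4b h hm hz4 ⟨s, hs0, hs⟩ h6
  by_cases hp : p = 2
  · subst hp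
    have hne : E ≠ Q1 φ := fun e => h1 e.le
    rcases P.e2a h hq hne with ⟨s, hs, h7⟩ | ⟨a, ha, h7⟩
    · exact P.e2b h s hs h7
    · exact P.e2c h a ha h7
  · exact h1 (P.e2o h hp hq).le

end Cfsg.Agent.H802.TE
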