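import Cfsg.Agent.H802.TE.Defs

/-!
# S5261, part E: StLine, StReg
-/

set_option autoImplicit false
set_option linter.unusedSectionVars false

namespace Cfsg.Agent.H802.TE

open Cfsg Cfsg.FusionSystem Cfsg.Agent.H756.PU
open Cfsg.Agent.H765.D3 Cfsg.Agent.H765.D3.Sy
open Cfsg.Agent.Hex.Defs (sh cr nm tr)
open scoped commutatorElement

universe u

/-- `2 ≠ 0` if the characteristic is not two -/
theorem two_ne {K : Type*} [Field K] (p : ℕ) [CharP K p] (hp : p ≠ 2) : (2 : K) ≠ 0 := by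
  intro h
  have h1 : p ∣ 2 := (CharP.cast_eq_zero_iff K p 2).1 (by exact_mod_cast h)
  rcases (Nat.dvd_prime Nat.prime_two).1 h1 with h2 | h2
  · subst h2
    exact one_ne_zero (CharP.cast_eq_zero K 1 ▸ Nat.cast_one (R := K)).symm
  · exact hp h2

theorem stLine (hE1 : StE1.{u}) (hR0 : StR0.{u}) (hRo : StRo.{u}) (hR2 : StR2.{u}) (hcj : StConj.{u}) : StLine.{u} := by
  intro F K _ _ _ _ _ φ _ p _ E Γ h hQ hL
  obtain ⟨l, m, hlm, hx⟩ := hL
  by_cases hm : m = 0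
  · have hl : l ≠ 0 := hlm.resolve_right (fun h => h hm)
    have h1 : E ≤ Q1 φ := by
      intro x hxE
      have h2 := hx x hxE
      rw [hm, zero_smul, add_zero] at h2
      exact (smul_eq_zero.1 h2).resolve_left hl
    have h2 := hE1 h h1
    have h3 : u6 φ (1 : F) ∈ Q2 φ := hQ (h2 ▸ u6_mem 1)
    exact one_ne_zero (show (1 : F) = 0 from h3)
  · obtain ⟨Γ', h'⟩ := hcj h (u6 φ (-(l / m))) trivial
    have hle : E.map (MulAut.conj (u6 φ (-(l / m)))).toMonoidHom ≤ R φ := by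
      rintro _ ⟨x, hxE, rfl⟩
      have hx6 : x.x6 = 0 := hQ hxE
      have h2 := hx x hxE
      have h3 : x.x5 = -(l / m) • x.x1 := by
        have h4 : m • x.x5 = -(l • x.x1) := eq_neg_of_add_eq_zero_right h2
        have h5 : x.x5 = m⁻¹ • (m • x.x5) := by rw [smul_smul, inv_mul_cancel₀ hm, one_smul]
        rw [h5, h4, smul_neg, smul_smul, neg_smul, div_eq_inv_mul]
      show u6 φ (-(l / m)) * x * (u6 φ (-(l / m)))⁻¹ ∈ R φ
      rw [mem_R]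
      constructor
      · rw [mul_x6, mul_x6, inv_x6, hx6]
        ring
      · rw [mul_x5, mul_x5, inv_x5, inv_x6, mul_x1, hx6, h3]
        simp only [u6]
        simp
    have h3 := hR0 h' hle
    have h4 : ∃ Γ'' : Subgroup (MulAut (R φ)), Ess ⊤ (R φ) p Γ'' := h3 ▸ ⟨Γ', h'⟩
    obtain ⟨Γ'', h5⟩ := h4
    by_cases hp : p = 2
    · subst hp
      exact hR2 h5
    · exact hRo h5 hp

section Reg

variable {F K : Type u} [Field F] [Field K] [Finite F] [Finite K] [Algebra F K] {φ : K ≃ₐ[F] K} [Cub φ]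

/-- `cr a` is onto for `a ≠ 0` in odd characteristic -/
theorem cr_surj (h2 : (2 : K) ≠ 0) {a : K} (ha : a ≠ 0) (b : K) : ∃ c, cr φ a c = b := by
  have hinj : Function.Injective (fun c => cr φ a c) := by
    intro c c' hcc
    have h1 : cr φ a (c - c') = 0 := by
      have h3 : cr φ a c = cr φ a c' := hcc
      rw [sub_eq_add_neg, cr_add_right, cr_neg_right, h3, add_neg_cancel]
    exact sub_eq_zero.1 ((cr_eq_zero φ h2 h1).resolve_left ha)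
  exact (Finite.injective_iff_surjective.1 hinj) b

theorem conj_eq (g y : Sy φ) : g * y * g⁻¹ = ⁅g, y⁆ * y := by
  rw [commutatorElement_def]; group

theorem stReg_aux (h2 : (2 : K) ≠ 0) (y : Sy φ) (ha : y.x1 ≠ 0) (hu : y.x6 ≠ 0) :
    ∀ t : Sy φ, t.x1 = y.x1 → t.x6 = y.x6 → ∃ g : Sy φ, g * y * g⁻¹ = t := by
  intro t ht1 ht6
  -- step 1
  obtain ⟨g1, y1, e1, h11, h16, h15⟩ : ∃ g1 y1 : Sy φ, g1 * y * g1⁻¹ = y1 ∧ y1.x1 = y.x1 ∧ y1.x6 = y.x6 ∧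
      y1.x5 = t.x5 := by
    refine ⟨u1 φ (y.x6⁻¹ • (t.x5 - y.x5)), _, rfl, ?_, ?_, ?_⟩
    · rw [conj_eq, mul_x1, comm_x1, zero_add]
    · rw [conj_eq, mul_x6, comm_x6, zero_add]
    · rw [conj_eq, mul_x5, comm_x1, comm_x5]
      simp only [u1]
      rw [smul_smul, mul_inv_cancel₀ hu, one_smul]
      simp
  -- step 2
  obtain ⟨g2, y2, e2, h21, h26, h25, h23⟩ : ∃ g2 y2 : Sy φ, g2 * y1 * g2⁻¹ = y2 ∧ y2.x1 = y.x1 ∧ y2.x6 = y.x6 ∧
      y2.x5 = t.x5 ∧ y2.x3 = t.x3 := by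
    obtain ⟨c, hc⟩ := cr_surj (φ := φ) h2 ha (y1.x3 - t.x3)
    have hz : ⁅u5 φ c, y1⁆ ∈ Z3 φ := by
      rw [← commutatorElement_inv]
      exact inv_mem (comm_mem_Z3 (u5_mem c))
    have hz3 : (⁅u5 φ c, y1⁆).x3 = t.x3 - y1.x3 := by
      have hz' : ⁅y1, u5 φ c⁆ ∈ Z3 φ := comm_mem_Z3 (u5_mem c)
      rw [← commutatorElement_inv, inv_x3, hz'.1, hz'.2.1, comm_x3 (u5_mem c), h11]
      simp only [u5, hc, cr_zero_left, sh_zero, zero_smul]
      ring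
    refine ⟨u5 φ c, _, rfl, ?_, ?_, ?_, ?_⟩
    · rw [conj_eq, mul_x1, hz.1, zero_add, h11]
    · rw [conj_eq, mul_x6, hz.2.1, zero_add, h16]
    · rw [conj_eq, mul_x5, hz.1, hz.2.2, smul_zero, zero_add, add_zero, h15]
    · rw [conj_eq, mul_x3, hz.1, hz3]
      simp only [cr_zero_left, sh_zero, smul_zero, add_zero]
      ring
  -- step 3
  obtain ⟨g3, y3, e3, h31, h36, h35, h33, h32⟩ : ∃ g3 y3 : Sy φ, g3 * y2 * g3⁻¹ = y3 ∧ y3.x1 = y.x1 ∧ y3.x6 = y.x6 ∧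
      y3.x5 = t.x5 ∧ y3.x3 = t.x3 ∧ y3.x2 = t.x2 := by
    obtain ⟨s, hs⟩ := exists_tr_ne φ
    obtain ⟨b, hb⟩ : ∃ b : K, tr φ (y.x1 * b) = y2.x2 - t.x2 := by
      refine ⟨((y2.x2 - t.x2) / tr φ s) • (y.x1⁻¹ * s), ?_⟩
      rw [mul_smul_comm, mul_inv_cancel_left₀ ha, tr_smul, div_mul_cancel₀ _ hs]
    have hz' : ⁅y2, u3 φ b⁆ ∈ Z2 φ := comm_mem_Z2 (u3_mem b)
    have hz : ⁅u3 φ b, y2⁆ ∈ Z2 φ := by
      rw [← commutatorElement_inv]
      exact inv_mem hz'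
    have hz2 : (⁅u3 φ b, y2⁆).x2 = t.x2 - y2.x2 := by
      rw [← commutatorElement_inv, inv_x2, hz'.1, hz'.2.1, comm_x2' (u3_mem b), h21]
      simp only [u3, hb, zero_mul, tr_zero, sh_zero, zero_mul]
      ring
    refine ⟨u3 φ b, _, rfl, ?_, ?_, ?_, ?_, ?_⟩
    · rw [conj_eq, mul_x1, hz.1, zero_add, h21]
    · rw [conj_eq, mul_x6, hz.2.1, zero_add, h26]
    · rw [conj_eq, mul_x5, hz.1, hz.2.2.1, smul_zero, zero_add, add_zero, h25]
    · rw [conj_eq, mul_x3, hz.1, hz.2.2.2]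
      simp only [cr_zero_left, sh_zero, smul_zero, add_zero, zero_add, h23]
    · rw [conj_eq, mul_x2, hz.1, hz2]
      simp only [zero_mul, tr_zero, sh_zero, nm_zero, mul_zero, add_zero]
      ring
  -- step 4
  obtain ⟨g4, e4⟩ : ∃ g4 : Sy φ, g4 * y3 * g4⁻¹ = t := by
    have hr : ⁅u2 φ (y.x6⁻¹ * (y3.x4 - t.x4)), y3⁆ = u4 φ (t.x4 - y3.x4) := by
      rw [← commutatorElement_inv, comm_Z2 (u2_mem _), h36]
      simp only [u2]
      rw [mul_inv_cancel_left₀ hu]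
      ext
      · rw [inv_x1]; simp [u4]
      · rw [inv_x6]; simp [u4]
      · rw [inv_x5]; simp [u4]
      · rw [inv_x3]; simp [u4, cr]
      · rw [inv_x2]; simp [u4, tr_zero]
      · rw [inv_x4]; simp [u4, tr_zero, nm_zero, sh_zero, cr]
    refine ⟨u2 φ (y.x6⁻¹ * (y3.x4 - t.x4)), ?_⟩
    rw [conj_eq, hr]
    ext
    · rw [mul_x1, h31, ht1]; simp [u4]
    · rw [mul_x6, h36, ht6]; simp [u4]
    · rw [mul_x5, h35]; simp [u4]
    · rw [mul_x3, h33]; simp [u4, cr, sh]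
    · rw [mul_x2, h32]; simp [u4, sh, tr_zero, nm_zero]
    · rw [mul_x4]; simp [u4, sh, tr_zero, nm_zero]
  refine ⟨g4 * g3 * g2 * g1, ?_⟩
  rw [← e4, ← e3, ← e2, ← e1]
  group

end Reg

theorem stReg : StReg.{u} := by
  intro F K _ _ _ _ _ φ _ p _ y hp ha hu
  refine stReg_aux (two_ne p hp) y ha hu _ ?_ ?_
  · rw [mul_x1]; simp [u1, u6]
  · rw [mul_x6]; simp [u1, u6]

end Cfsg.Agent.H802.TE
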