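import Cfsg.Agent.H802.TE.Pre
import Cfsg.Agent.H218.TE.RoAbs
import Cfsg.Agent.H218.TE.P2S
import Cfsg.Agent.H780.D4.Asm
import Cfsg.Agent.H245.PU.Ess
import Cfsg.Agent.H546.PU.Constr
import Cfsg.Agent.H805.PU.Main
import Cfsg.Agent.H805.D4.TIAlp
import Cfsg.Agent.H765.D4.Grp
import Cfsg.Agent.H765.D4.PosD
import Cfsg.Agent.H812.D4t.Tor
import Cfsg.Agent.H25.D4.NLift
import Cfsg.Agent.H200.D4.Lin1b
import Cfsg.Agent.H673.D4.Lin1
import Cfsg.Agent.H932.D4.LOne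
import Cfsg.Agent.H131.D3L1.Main
import Cfsg.Agent.H7.D4.LTwoA
import Cfsg.Agent.H640.D4.L2
import Cfsg.Agent.H491.D4.Main

/-!
# S5261: all pieces from the two facts with a large import closure (`StRk1` and the statement S3083)
-/

set_option autoImplicit false

namespace Cfsg.Agent.H802.TE

universe u v

theorem stE_of_sq (h : Cfsg.Agent.H218.TE.StSQ.{u}) : StE.{u} :=
  @stE_pre (Cfsg.Agent.H218.TE.eng_of h) (Cfsg.Agent.H218.TE.roAbs_of h)

theorem pieces_of (hsq : Cfsg.Agent.H218.TE.StSQ.{u}) (hrk : Cfsg.Agent.H780.D4.StRk1.{u}) :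
    Cfsg.Agent.H780.D4.Pieces.{u} := by
  have grp : Cfsg.Agent.H780.D4.StGrpD.{u} := Cfsg.Agent.H765.D4.stGrpD
  have lin1 : Cfsg.Agent.H780.D4.StLin1.{u} := Cfsg.Agent.H673.D4.stLin1 hrk Cfsg.Agent.H200.D4.stLin1b
  have l1a : Cfsg.Agent.H780.D4.StL1a.{u} := Cfsg.Agent.H932.D4.stL1a grp lin1
  have l2a : Cfsg.Agent.H780.D4.StL2a.{u} := Cfsg.Agent.H7.D4.LTwoA.stL2a grp
  have nl : Cfsg.Agent.H780.D4.StNLift.{u} := Cfsg.Agent.H25.D4.stNLift
  exact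
    { ess := Cfsg.Agent.H245.PU.stEss
      con := Cfsg.Agent.H546.PU.stCon
      same := Cfsg.Agent.H546.PU.stSame
      twist := Cfsg.Agent.H805.PU.stTwist
      compl := Cfsg.Agent.H805.PU.stCompl
      tialp := Cfsg.Agent.H805.D4.stTIAlp
      grp := grp
      e := stE_of_sq hsq
      pos := Cfsg.Agent.H765.D4.stPosD
      tor := Cfsg.Agent.H812.D4t.stTor_of grp
      l1a := l1a
      l1 := Cfsg.Agent.H131.D3L1.stL1 nl grp l1a
      l2a := l2a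
      l2 := Cfsg.Agent.H640.D4.st_L2 l2a nl grp
      real := Cfsg.Agent.H491.D4.stRealD_of grp }

theorem final (hsq : Cfsg.Agent.H218.TE.StSQ.{v}) (hrk : Cfsg.Agent.H780.D4.StRk1.{v})
    {Ω : Type u} [Group Ω] {S : Subgroup Ω} [Finite S] (p : ℕ) [Fact p.Prime] (F : Cfsg.FusionSystem S)
    (hF : F.IsSaturated p) {K : Type v} [Field K] [Fintype K] [CharP K p] (n : ℕ) (hn : 1 ≤ n)
    (hK : Fintype.card K = (p ^ n) ^ 3) (T : Sylow p ↥(Cfsg.Lie.twistedD4 K (p ^ n)))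
    (e : ↥S ≃* ↥(T : Subgroup ↥(Cfsg.Lie.twistedD4 K (p ^ n)))) : F.IsRealizable p :=
  Cfsg.Agent.H780.D4.final_of (pieces_of hsq hrk) Cfsg.Agent.H805.PU.stTrans p F hF n hn hK T e

end Cfsg.Agent.H802.TE
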