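import Cfsg.Agent.H802.TE.Setup2
import Cfsg.Agent.H802.TE.Line
import Cfsg.Agent.H659.TE.R2
import Cfsg.Agent.H128.TE.R0

/-!
# S5261, part E: `R = U1 U3 U2 U4` is not essential, `p` odd

The abstract theorem `StRoAbs` is proved in `H205/TE/RoAbs.lean`.
-/

set_option autoImplicit false
set_option linter.unusedSectionVars false

namespace Cfsg.Agent.H802.TE

open Subgroup Cfsg Cfsg.FusionSystem Cfsg.Agent.H756.PU Cfsg.Agent.H218.Fus Cfsg.Agent.H205.TE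
open Cfsg.Agent.H765.D3 Cfsg.Agent.H765.D3.Sy
open Cfsg.Agent.Hex.Defs (sh cr nm tr)
open scoped commutatorElement

universe u

/-- the abstract theorem behind `StRo` -/
def StRoAbs : Prop :=
  ∀ {G : Type u} [Group G] [Finite G] {p : ℕ} [Fact p.Prime] {V : Type u} [AddCommGroup V] [Module (ZMod p) V]
    [Finite V] (ρ : Representation (ZMod p) G V) (T X : Subgroup G) (Z M : Submodule (ZMod p) V), p ≠ 2 →
    Function.Injective ρ → SE p X → T ≤ X → IsPGroup p T → T ≠ ⊥ →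
    (∀ P : Subgroup G, IsPGroup p P → ∃ g, ∀ x ∈ P, g * x * g⁻¹ ∈ T) → Z ≤ M → (∀ g, ∀ z ∈ Z, ρ g z ∈ Z) →
    (∀ t ∈ T, ∀ z ∈ Z, ρ t z = z) → (∀ v, (∀ t ∈ T, ρ t v = v) → v ∈ Z) → (∀ t ∈ T, ∀ v, ρ t v - v ∈ M) →
    (∀ t ∈ T, t ≠ 1 → ∀ v, ρ t v - v ∈ Z ↔ v ∈ M) → Nat.card V = Nat.card Z * Nat.card T ^ 2 →
    Nat.card M = Nat.card Z * Nat.card T → False

section
variable {Ω : Type u} [Group Ω] {S E : Subgroup Ω} {p : ℕ} {Γ : Subgroup (MulAut E)}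

/-- the image of a subgroup in `E/Φ(E)` -/
def imV (D : Setup S E p) (M : Subgroup Ω) : Submodule (ZMod p) D.V :=
  AddSubgroup.toZModSubmodule p ((Subgroup.toAddSubgroup (M.subgroupOf E)).map D.π)

theorem mem_imV (D : Setup S E p) {M : Subgroup Ω} (hM : Phi E ≤ M) (e : E) :
    D.π (Additive.ofMul e) ∈ imV D M ↔ (e : Ω) ∈ M := by
  constructor
  · rintro ⟨f, hf, hfe⟩
    have h1 : D.π (Additive.ofMul (e * (Additive.toMul f)⁻¹)) = 0 := by
      rw [ofMul_mul, ofMul_inv, map_add, map_neg, ← sub_eq_add_neg, sub_eq_zero]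
      exact hfe.symm
    rw [D.kerπ] at h1
    have h2 : ((e * (Additive.toMul f)⁻¹ : E) : Ω) ∈ M := hM ⟨_, h1, rfl⟩
    have h3 : ((Additive.toMul f : E) : Ω) ∈ M := hf
    have h4 := M.mul_mem h2 h3
    simpa using h4
  · intro h
    exact ⟨Additive.ofMul e, h, rfl⟩

theorem card_imV (D : Setup S E p) {M : Subgroup Ω} (hME : M ≤ E) :
    Nat.card (imV D M) = (Phi E).relIndex M := by
  have h3 : Nat.card ((Subgroup.toAddSubgroup (M.subgroupOf E)).map D.π) =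
      D.π.ker.relIndex (Subgroup.toAddSubgroup (M.subgroupOf E)) := (AddSubgroup.relIndex_ker _ _).symm
  have h4 : D.π.ker = Subgroup.toAddSubgroup (frattini E) := by
    ext e
    rw [AddMonoidHom.mem_ker]
    exact D.kerπ e.toMul
  have h5 : (Subgroup.toAddSubgroup (frattini E)).relIndex (Subgroup.toAddSubgroup (M.subgroupOf E)) =
      (frattini E).relIndex (M.subgroupOf E) := Subgroup.relIndex_toAddSubgroup
  have h6 : (Phi E).subgroupOf E = frattini E := by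
    ext x
    rw [mem_subgroupOf]
    constructor
    · rintro ⟨y, hy, hyx⟩
      rwa [← show y = x from Subtype.ext hyx]
    · intro hx
      exact ⟨x, hx, rfl⟩
  change Nat.card ((Subgroup.toAddSubgroup (M.subgroupOf E)).map D.π) = _
  rw [h3, h4, h5, ← relIndex_subgroupOf (H := Phi E) hME, h6]

theorem card_V (D : Setup S E p) : Nat.card D.V = (Phi E).relIndex E := by
  rw [← card_imV D le_rfl]
  have : imV D E = ⊤ := by
    rw [eq_top_iff]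
    intro v _
    obtain ⟨e, rfl⟩ := D.sur v
    exact ⟨e, (Additive.toMul e).2, rfl⟩
  rw [this]
  exact (Nat.card_congr (Submodule.topEquiv (R := ZMod p) (M := D.V)).toEquiv).symm

/-- the action in terms of commutators -/
theorem act_sub (D : Setup S E p) (a : normalizerIn S E) (e : E) :
    ∃ c : E, (c : Ω) = (a : Ω) * e * (a : Ω)⁻¹ * (e : Ω)⁻¹ ∧
      D.ρ (D.ψ a) (D.π (Additive.ofMul e)) - D.π (Additive.ofMul e) = D.π (Additive.ofMul c) := by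
  have hae : (a : Ω) * e * (a : Ω)⁻¹ ∈ E := (mem_normalizer_iff.1 a.2.2 _).1 e.2
  refine ⟨⟨_, hae⟩ * e⁻¹, rfl, ?_⟩
  rw [D.act a e ⟨_, hae⟩ rfl, ofMul_mul, ofMul_inv, map_add, map_neg, ← sub_eq_add_neg]

end

section
variable {F K : Type u} [Field F] [Field K] [Algebra F K] {φ : K ≃ₐ[F] K} [Cub φ]

variable (φ) in
/-- `U2` -/
def U2' : Subgroup (Sy φ) where
  carrier := {x | x ∈ Z2 φ ∧ x.x4 = 0}
  one_mem' := ⟨one_mem _, rfl⟩
  mul_mem' {x y} hx hy := by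
    refine ⟨mul_mem hx.1 hy.1, ?_⟩
    rw [mul_x4, hx.2, hy.2, hy.1.2.1, hx.1.1, hx.1.2.2.2]
    simp [tr_zero]
  inv_mem' {x} hx := by
    refine ⟨inv_mem hx.1, ?_⟩
    rw [inv_x4, hx.2, hx.1.1, hx.1.2.1, hx.1.2.2.1, hx.1.2.2.2]
    simp [tr_zero, cr_zero_left]

theorem R_pow {x : Sy φ} (hx : x ∈ R φ) (n : ℕ) :
    (x ^ n).x6 = 0 ∧ (x ^ n).x5 = 0 ∧ (x ^ n).x1 = n • x.x1 ∧ (x ^ n).x3 = n • x.x3 ∧ (x ^ n).x4 = n • x.x4 := by
  induction n with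
  | zero => simp
  | succ n ih =>
    obtain ⟨h6, h5, h1, h3, h4⟩ := ih
    rw [pow_succ]
    refine ⟨?_, ?_, ?_, ?_, ?_⟩
    · rw [mul_x6, h6, hx.1, add_zero]
    · rw [mul_x5, h5, hx.1, hx.2, zero_smul, add_zero, add_zero]
    · rw [mul_x1, h1, succ_nsmul]
    · rw [mul_x3, h3, hx.1, hx.2, cr_zero_right, zero_smul, add_zero, add_zero, succ_nsmul]
    · rw [mul_x4, h4, hx.1, hx.2, succ_nsmul, show sh φ (0 : K) = 0 from by rw [sh, map_zero, zero_mul]]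
      simp [tr_zero]

theorem norm_R_le : normalizerIn (⊤ : Subgroup (Sy φ)) (R φ) ≤ Q2 φ := by
  intro x hx
  have h1 : u1 φ 1 ∈ R φ := ⟨rfl, rfl⟩
  have h2 := (mem_normalizer_iff.1 hx.2 (u1 φ 1)).1 h1
  have h3 : ⁅x, u1 φ 1⁆ ∈ R φ := by
    rw [commutatorElement_def]
    exact (R φ).mul_mem h2 ((R φ).inv_mem h1)
  exact x6_eq_zero h3.2

end

section
variable {F K : Type u} [Field F] [Field K] [Algebra F K]

theorem stRo_of (hphi : StPhi.{u}) (hro : StRoAbs.{u}) : StRo.{u} := by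
  intro F K _ _ _ _ _ φ _ p _ Γ h hp2
  have := Fact.mk h.pp
  have h2 : (2 : K) ≠ 0 := two_ne p hp2
  obtain ⟨D, hΓ, hsyl⟩ := exists_setup2 h
  have hQn : Q2 φ ≤ normalizerIn (⊤ : Subgroup (Sy φ)) (R φ) :=
    Cfsg.Agent.H659.TE.Q2_le_norm Cfsg.Agent.H659.TE.Z3_le_R (fun _ h => h.1)
  obtain ⟨hPE, hPc, hPp, hPmin, hPinv, hPn⟩ := hphi (R φ) p h.pp inferInstance (Cfsg.Agent.H775.PU.pE h)
  have hp0 : (p : K) = 0 := CharP.cast_eq_zero K p
  have hpF : (p : F) = 0 := by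
    apply FK_inj φ
    rw [map_natCast, map_zero, hp0]
  have hZ2R : Z2 φ ≤ R φ := fun x hx => ⟨hx.2.1, hx.2.2.1⟩
  have hZ3R : Z3 φ ≤ R φ := Cfsg.Agent.H659.TE.Z3_le_R
  have hZ23 : Z2 φ ≤ Z3 φ := Z2_le_Z3
  -- `Φ(R) ≤ U2`
  have hPU : Phi (R φ) ≤ U2' φ := by
    refine hPmin (U2' φ) (fun x hx => hZ2R hx.1) ?_ ?_
    · intro x hx y hy
      rw [Cfsg.Agent.H659.TE.comm_def', Cfsg.Agent.H128.TE.comm_R hx hy]
      exact ⟨u2_mem _, rfl⟩
    · intro x hx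
      obtain ⟨h6, h5, h1, h3, h4⟩ := R_pow hx p
      refine ⟨⟨?_, h6, h5, ?_⟩, ?_⟩
      · rw [h1, nsmul_eq_mul, hp0, zero_mul]
      · rw [h3, nsmul_eq_mul, hp0, zero_mul]
      · rw [h4, nsmul_eq_mul, hpF, zero_mul]
  have hPZ2 : Phi (R φ) ≤ Z2 φ := fun x hx => (hPU hx).1
  have hPZ3 : Phi (R φ) ≤ Z3 φ := hPZ2.trans hZ23
  -- commutators with elements of `Q2`
  have hcx3 : ∀ a ∈ Q2 φ, ∀ e ∈ R φ, ⁅a, e⁆ ∈ Z3 φ ∧ (⁅a, e⁆).x3 = -cr φ e.x1 a.x5 := by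
    intro a ha e he
    obtain ⟨h1, h3⟩ := Cfsg.Agent.H659.TE.comm_Q2 (φ := φ) ha he.1
    refine ⟨h1, ?_⟩
    rw [h3, he.2, cr_zero_right, zero_sub]
  -- orders
  have hRQ : (R φ).relIndex (Q2 φ) = Nat.card K := by
    refine Cfsg.Agent.H659.TE.relIndex_of_hom (fun x => x.x5) ?_ ?_ ?_
    · intro x _ y hy
      change (x * y).x5 = x.x5 + y.x5
      rw [mul_x5, show y.x6 = 0 from hy, zero_smul, add_zero]
    · intro x hx
      exact ⟨fun h => h.2, fun h => ⟨hx, h⟩⟩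
    · intro a
      exact ⟨u5 φ a, rfl, rfl⟩
  have hZZ : (Z2 φ).relIndex (Z3 φ) = Nat.card K := by
    refine Cfsg.Agent.H659.TE.relIndex_of_hom (fun x => x.x3) ?_ ?_ ?_
    · intro x hx y hy
      change (x * y).x3 = x.x3 + y.x3
      rw [mul_x3, hx.1, hy.2.1, cr_zero_left, zero_smul, add_zero, add_zero]
    · intro x hx
      exact ⟨fun h => h.2.2.2, fun h => ⟨hx.1, hx.2.1, hx.2.2, h⟩⟩
    · intro a
      exact ⟨u3 φ a, u3_mem a, rfl⟩
  have hZR : (Z3 φ).relIndex (R φ) = Nat.card K := by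
    refine Cfsg.Agent.H659.TE.relIndex_of_hom (fun x => x.x1) ?_ ?_ ?_
    · intro x hx y hy
      exact mul_x1 x y
    · intro x hx
      exact ⟨fun h => h.1, fun h => ⟨h, hx.1, hx.2⟩⟩
    · intro a
      exact ⟨u1 φ a, ⟨rfl, rfl⟩, rfl⟩
  have hT : Nat.card (D.im (Q2 φ)) = Nat.card K := by rw [D.card_im hQn, hRQ]
  have cZ : Nat.card (imV D (Z2 φ)) = (Phi (R φ)).relIndex (Z2 φ) := card_imV D hZ2R
  have cM : Nat.card (imV D (Z3 φ)) = Nat.card (imV D (Z2 φ)) * Nat.card K := by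
    rw [card_imV D hZ3R, cZ, ← hZZ]
    exact (Subgroup.relIndex_mul_relIndex _ _ _ hPZ2 hZ23).symm
  have cV : Nat.card D.V = Nat.card (imV D (Z2 φ)) * Nat.card K ^ 2 := by
    rw [card_V D, pow_two, ← mul_assoc, ← cM, card_imV D hZ3R, ← hZR]
    exact (Subgroup.relIndex_mul_relIndex _ _ _ hPZ3 hZ3R).symm
  refine hro D.ρ (D.im (Q2 φ)) D.X (imV D (Z2 φ)) (imV D (Z3 φ)) hp2 D.inj D.se (D.im_le _) (D.pg h _)
    (D.ne_bot hQn fun hQ => ?_) ?_ ?_ ?_ ?_ ?_ ?_ ?_ (by rw [hT]; exact cV) (by rw [hT]; exact cM)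
  · have := (hQ (show u5 φ 1 ∈ Q2 φ from rfl)).2
    exact one_ne_zero this
  · intro P hP
    obtain ⟨g, hg⟩ := hsyl P hP
    refine ⟨g, fun x hx => ?_⟩
    obtain ⟨a, ha⟩ := hg x hx
    rw [ha]
    exact D.mem_im hQn (norm_R_le a.2)
  · rintro _ ⟨e, he, rfl⟩
    exact ⟨e, hZ23 he, rfl⟩
  · rintro g _ ⟨e, he, rfl⟩
    obtain ⟨γ, hγ, hγe⟩ := hΓ g
    have h3 := hγe (Additive.toMul e)
    change D.ρ g (D.π (Additive.ofMul (Additive.toMul e))) ∈ _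
    rw [h3]
    have hinv : Inv Γ (Z2 φ) := Cfsg.Agent.H659.TE.inv_of_center Γ hZ2R fun x hx => Cfsg.Agent.H659.TE.Z2_iff_R hx
    exact ⟨_, hinv.2 γ hγ _ he, rfl⟩
  · rintro _ ⟨a, ha, rfl⟩ _ ⟨e, he, rfl⟩
    obtain ⟨c, hc, hce⟩ := act_sub D a (Additive.toMul e)
    have h4 : c = 1 := by
      apply Subtype.ext
      have h5 : ((Additive.toMul e : R φ) : Sy φ) ∈ Z2 φ := he
      rw [hc, Cfsg.Agent.H659.TE.comm_def', comm_Z2 h5, show (a : Sy φ).x6 = 0 from ha, zero_mul]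
      rfl
    rw [h4] at hce
    rw [← sub_eq_zero]
    exact hce.trans (map_zero D.π)
  · intro v hv
    obtain ⟨e, rfl⟩ := D.sur v
    change D.π (Additive.ofMul (Additive.toMul e)) ∈ _
    rw [mem_imV D hPZ2]
    have hcom : ∀ a ∈ Q2 φ, ⁅a, ((Additive.toMul e : R φ) : Sy φ)⁆ ∈ Phi (R φ) := by
      intro a ha
      obtain ⟨c, hc, hce⟩ := act_sub D ⟨a, hQn ha⟩ (Additive.toMul e)
      have h5 := hv _ (D.mem_im hQn ha)
      have h6 : D.π (Additive.ofMul c) = 0 := by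
        rw [← hce, sub_eq_zero]
        exact h5
      rw [D.kerπ] at h6
      exact ⟨c, h6, hc⟩
    have he := (Additive.toMul e : R φ).2
    have h1 : ((Additive.toMul e : R φ) : Sy φ).x1 = 0 := by
      have h7 := (hPZ2 (hcom (u5 φ 1) rfl)).2.2.2
      rw [(hcx3 _ rfl _ he).2, neg_eq_zero] at h7
      rcases cr_eq_zero φ h2 h7 with h8 | h8
      · exact h8
      · exact (one_ne_zero h8).elim
    have h3 : ((Additive.toMul e : R φ) : Sy φ) ∈ Z3 φ := ⟨h1, he.1, he.2⟩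
    refine ⟨h1, he.1, he.2, tr_nondeg φ fun c => ?_⟩
    have h7 := (hPU (hcom (u5 φ c) rfl)).2
    rw [comm_x4' h3] at h7
    have e6 : (u5 φ c).x6 = 0 := rfl
    have e5 : (u5 φ c).x5 = c := rfl
    have e1 : (u5 φ c).x1 = 0 := rfl
    have e3 : (u5 φ c).x3 = 0 := rfl
    rw [e6, e5, zero_mul, zero_mul, zero_sub, add_zero, neg_eq_zero] at h7
    exact h7
  · rintro _ ⟨a, ha, rfl⟩ v
    obtain ⟨e, rfl⟩ := D.sur v
    obtain ⟨c, hc, hce⟩ := act_sub D a (Additive.toMul e)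
    change D.ρ (D.ψ a) (D.π (Additive.ofMul (Additive.toMul e))) - D.π (Additive.ofMul (Additive.toMul e)) ∈ _
    rw [hce, mem_imV D hPZ3, hc]
    exact (hcx3 _ ha _ (Additive.toMul e : R φ).2).1
  · rintro _ ⟨a, ha, rfl⟩ ha1 v
    obtain ⟨e, rfl⟩ := D.sur v
    obtain ⟨c, hc, hce⟩ := act_sub D a (Additive.toMul e)
    have he := (Additive.toMul e : R φ).2
    change D.ρ (D.ψ a) (D.π (Additive.ofMul (Additive.toMul e))) - D.π (Additive.ofMul (Additive.toMul e)) ∈ _ ↔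
      D.π (Additive.ofMul (Additive.toMul e)) ∈ _
    rw [hce, mem_imV D hPZ2, mem_imV D hPZ3, hc, Cfsg.Agent.H659.TE.comm_def']
    obtain ⟨h5, h6⟩ := hcx3 (a : Sy φ) ha _ he
    have ha5 : (a : Sy φ).x5 ≠ 0 := by
      intro h7
      apply ha1
      have h8 : a ∈ D.ψ.ker := by
        rw [D.ker]
        exact ⟨ha, h7⟩
      exact h8
    constructor
    · intro h7
      have h8 := h7.2.2.2
      rw [h6, neg_eq_zero] at h8
      rcases cr_eq_zero φ h2 h8 with h9 | h9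
      · exact ⟨h9, he.1, he.2⟩
      · exact (ha5 h9).elim
    · intro h7
      refine ⟨h5.1, h5.2.1, h5.2.2, ?_⟩
      rw [h6, h7.1, cr_zero_left, neg_zero]

end

end Cfsg.Agent.H802.TE
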