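import Cfsg.Agent.H802.TE.Asm
import Cfsg.Agent.H802.TE.Line
import Cfsg.Agent.H802.TE.Ro
import Cfsg.Agent.H128.TE.R0
import Cfsg.Agent.H15.TE.E2
import Cfsg.Agent.H135.TE.Ao
import Cfsg.Agent.H167.TE.B2
import Cfsg.Agent.H390.TE.MOne
import Cfsg.Agent.H406.TE.E2c
import Cfsg.Agent.H406.TE.M4
import Cfsg.Agent.H406.TE.M4bc
import Cfsg.Agent.H534.TE.M0
import Cfsg.Agent.H659.TE.R2
import Cfsg.Agent.H667.TE.M3
import Cfsg.Agent.H744.TE.A2
import Cfsg.Agent.H752.TE.M3b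
import Cfsg.Agent.H775.TE.Bo
import Cfsg.Agent.H807.TE.M3d
import Cfsg.Agent.H869.TE.E1

/-!
# S5261, part E: the theorem `StE` from the engine and the last pieces
-/

set_option autoImplicit false

namespace Cfsg.Agent.H802.TE

universe u

theorem stE_pre (e : Eng.{u}) (ro : StRoAbs.{u}) : StE.{u} := by
  have e1 : StE1.{u} := Cfsg.Agent.H869.TE.stE1 e.p2 e.phi
  have zc : StZC.{u} := Cfsg.Agent.H390.TE.stZC e.phi
  have P : Pieces.{u} :=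
    { e1 := e1
      e2o := Cfsg.Agent.H15.TE.stE2o_eng e
      e2a := Cfsg.Agent.H15.TE.stE2a_eng e
      e2b := Cfsg.Agent.H15.TE.stE2b_eng e
      e2c := Cfsg.Agent.H406.TE.stE2c e.phi e.ch
      c2 := Cfsg.Agent.H659.TE.stC2 e.secW
      line := stLine e1 (Cfsg.Agent.H128.TE.stR0 e.phi e.p2) (stRo_of e.phi ro) (Cfsg.Agent.H659.TE.stR2 e.secC) e.cj
      ao := Cfsg.Agent.H135.TE.stAo e.phi e.p2
      a2 := Cfsg.Agent.H744.TE.stA2 e.p2 e.phi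
      bo := Cfsg.Agent.H775.TE.stBo e.phi e.p2 e.p2w e.hull
      b2 := Cfsg.Agent.H167.TE.stB2 e.phi e.bd e.hull
      m0o := Cfsg.Agent.H534.TE.stM0o e.p2 e.hull e.cj stReg
      m02 := Cfsg.Agent.H534.TE.stM02 e.hull
      m1o := Cfsg.Agent.H390.TE.stM1o e.p2 e.hull e.cj stReg zc
      m12 := Cfsg.Agent.H390.TE.stM12 zc e.hull
      m3o := Cfsg.Agent.H667.TE.stM3o e.phi e.bd e.hull
      m3c := Cfsg.Agent.H752.TE.stM3c_eng e (Cfsg.Agent.H667.TE.stM3a e.phi)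
      m3d := Cfsg.Agent.H807.TE.stM3d e.phi e.p2w e.ch
      m4a := Cfsg.Agent.H406.TE.stM4a e.ch
      m4b := Cfsg.Agent.H406.TE.stM4b e.phi e.p2c
      m4c := Cfsg.Agent.H406.TE.stM4c e.phi e.p2c }
  exact @stE_of P

end Cfsg.Agent.H802.TE
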