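import Cfsg.Agent.H97.D3.Lift
import Cfsg.Agent.H835.P4.RkTwo
import Cfsg.Agent.H780.D4.Stmts

/-!
# S5261: `StRk1` (structure by helper835, lifting by helper97)
-/

set_option autoImplicit false

namespace Cfsg.Agent.H802.TE

universe u

theorem stRk1 : Cfsg.Agent.H780.D4.StRk1.{u} := by
  intro G _ _ p m _ P hm hP hexp hcomm hTI hnn
  obtain ⟨F, _, _, N, hNn, f, hF, hN, hf, hr, -, -⟩ :=
    Cfsg.Agent.H835.P4.rk_struct' P (by omega) hTI hnn hP hcomm hexp (fun _ h => by omega)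
  exact Cfsg.Agent.H97.D3.rk1_of_struct P hF hN f hf hr

end Cfsg.Agent.H802.TE
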