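import Cfsg.Agent.H205.TE.P2

/-!
# S5261, part E: the `Setup` of helper205 with the extra information that it comes from `Γ`
-/

set_option autoImplicit false
set_option linter.unusedSectionVars false

namespace Cfsg.Agent.H802.TE

open Subgroup Cfsg Cfsg.FusionSystem Cfsg.Agent.H756.PU Cfsg.Agent.H218.Fus Cfsg.Agent.H205.TE
open Cfsg.Agent.H775.PU (B3083 act act_mk mem_ker_act ker_act_le inn_le_ker lin lin_apply lin_injective)

universe u

variable {Ω : Type u} [Group Ω] {S E : Subgroup Ω} {p : ℕ} {Γ : Subgroup (MulAut E)}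

theorem mem_range_of_induced {x : MulAut E} (hx : x ∈ autInducedBy S E) :
    ∃ r ∈ normalizerIn S E, ∀ e : E, ((x e : E) : Ω) = r * e * r⁻¹ := by
  obtain ⟨r, hr, hrx⟩ := (Cfsg.Agent.H802.mem_autInducedBy_iff _ _ _).1 hx
  refine ⟨r, ⟨hr, ?_⟩, hrx⟩
  have h1 : ∀ e ∈ E, r * e * r⁻¹ ∈ E := by
    intro e he
    have h2 := hrx ⟨e, he⟩
    rw [← h2]
    exact (x ⟨e, he⟩).2
  refine mem_normalizer_iff.2 ?_
  intro e
  refine ⟨h1 e, fun h3 => ?_⟩
  have h4 : r * (x⁻¹ ⟨_, h3⟩ : E) * r⁻¹ = r * e * r⁻¹ := by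
    have h5 := hrx (x⁻¹ ⟨_, h3⟩)
    rw [← h5]
    simp
  have h6 : ((x⁻¹ ⟨_, h3⟩ : E) : Ω) = e := by
    have := congrArg (fun y => r⁻¹ * y * r) h4
    simpa [mul_assoc] using this
  rw [← h6]
  exact (x⁻¹ ⟨_, h3⟩ : E).2

/-- `Inn(E)` and `Aut_S(E)` are `p`-groups -/
theorem pg_induced (h : Ess S E p Γ) : IsPGroup p (autInducedBy S E) := by
  have := h.fin
  have hpN : IsPGroup p (normalizerIn S E) :=
    h.pgr.of_injective (inclusion (inf_le_left : normalizerIn S E ≤ S)) (inclusion_injective _)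
  let c : normalizerIn S E →* MulAut E :=
    (normalizerMonoidHom E).comp (inclusion (inf_le_right : normalizerIn S E ≤ normalizer (E : Set Ω)))
  have hle : autInducedBy S E ≤ c.range := by
    intro x hx
    obtain ⟨r, hr, hrx⟩ := mem_range_of_induced hx
    refine ⟨⟨r, hr⟩, ?_⟩
    ext e
    exact (hrx e).symm
  have h2 : IsPGroup p c.range := hpN.of_surjective c.rangeRestrict c.rangeRestrict_surjective
  exact h2.to_le hle

theorem sylQ (h : Ess S E p Γ) (P : Subgroup (Γ ⧸ (act Γ).ker)) (hP : IsPGroup p P) :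
    ∃ g : Γ, ∀ x : Γ, (x : Γ ⧸ (act Γ).ker) ∈ P → ((g * x * g⁻¹ : Γ) : MulAut E) ∈ autInducedBy S E := by
  have := Fact.mk h.pp
  have hker : IsPGroup p (act Γ).ker := by
    have h1 : IsPGroup p (Inn E) := (pg_induced h).to_le (inn_le_T h)
    have h2 : (act Γ).ker.map Γ.subtype ≤ Inn E := by
      rintro _ ⟨g, hg, rfl⟩
      exact ker_act_le h g hg
    have h3 := h1.to_le h2
    intro x
    obtain ⟨k, hk⟩ := h3 ⟨x, ⟨x, x.2, rfl⟩⟩
    refine ⟨k, ?_⟩
    apply Subtype.ext
    apply Subtype.ext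
    have := congrArg Subtype.val hk
    simpa using this
  have hQ : IsPGroup p (P.comap (QuotientGroup.mk' (act Γ).ker)) :=
    hP.comap_of_ker_isPGroup _ (by rw [QuotientGroup.ker_mk']; exact hker)
  have hQ' : IsPGroup p ((P.comap (QuotientGroup.mk' (act Γ).ker)).map Γ.subtype) := hQ.map _
  obtain ⟨g, hg, hgx⟩ := h.syl _ (Subgroup.map_subtype_le _) hQ'
  refine ⟨⟨g, hg⟩, fun x hx => ?_⟩
  exact hgx x ⟨x, hx, rfl⟩

theorem exists_setup2 (h : Ess S E p Γ) : ∃ D : Setup S E p,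
    (∀ k : D.K, ∃ γ ∈ Γ, ∀ e : E, D.ρ k (D.π (Additive.ofMul e)) = D.π (Additive.ofMul (γ e))) ∧
    (∀ P : Subgroup D.K, IsPGroup p P → ∃ g : D.K, ∀ x ∈ P, ∃ a : normalizerIn S E, g * x * g⁻¹ = D.ψ a) := by
  have hfE : Finite E := Cfsg.Agent.H775.PU.finE h
  have := Fact.mk h.pp
  have := h.fin
  have hpE : IsPGroup p E := Cfsg.Agent.H775.PU.pE h
  obtain ⟨H, hHΓ, hHne, hAH, hAI, hspe⟩ := h.spe
  set C := (act Γ).ker with hC
  have hCI : ∀ g : Γ, g ∈ C ↔ (g : MulAut E) ∈ Inn E := fun g => ⟨ker_act_le h g, inn_le_ker h g⟩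
  have hcomm : ∀ a b : E ⧸ frattini E, a * b = b * a := by
    intro a b
    obtain ⟨a, rfl⟩ := QuotientGroup.mk_surjective a
    obtain ⟨b, rfl⟩ := QuotientGroup.mk_surjective b
    rw [← QuotientGroup.mk_mul, ← QuotientGroup.mk_mul, QuotientGroup.eq]
    have h1 := Cfsg.Agent.Lib.FrattiniPGroup.commutator_le_frattini hpE
      (Subgroup.commutator_mem_commutator (mem_top b⁻¹) (mem_top a⁻¹))
    rw [commutatorElement_def] at h1
    convert h1 using 1
    group
  let cg : CommGroup (E ⧸ frattini E) :=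
    { (inferInstance : Group (E ⧸ frattini E)) with mul_comm := hcomm }
  have hpow : ∀ x : E ⧸ frattini E, x ^ p = 1 := by
    intro x
    obtain ⟨x, rfl⟩ := QuotientGroup.mk_surjective x
    rw [← QuotientGroup.mk_pow, QuotientGroup.eq_one_iff]
    exact Cfsg.Agent.Lib.FrattiniPGroup.pow_mem_frattini hpE x
  obtain ⟨inst⟩ : Nonempty (Module (ZMod p) (Additive (E ⧸ frattini E))) :=
    ⟨AddCommGroup.zmodModule (n := p) (fun v => by exact hpow v.toMul)⟩
  have hSEm : SEm p C (H.subgroupOf Γ) := by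
    refine ⟨?_, ?_, ?_⟩
    · intro g hg
      rw [mem_subgroupOf]
      exact hAH (inn_le_T h ((hCI g).1 hg))
    · by_contra hcon
      push Not at hcon
      exact hHne (le_antisymm hHΓ fun g hg => hcon ⟨g, hg⟩)
    · intro q hq hqC hqp g hg hgq
      apply hqC
      rw [hCI]
      refine hspe g g.2 (fun h' => hg h') q hq hgq ?_
      obtain ⟨k, hk⟩ := hqp
      exact ⟨k, congrArg Subtype.val hk⟩
  let c : normalizerIn S E →* MulAut E :=
    (normalizerMonoidHom E).comp (inclusion (inf_le_right : normalizerIn S E ≤ normalizer (E : Set Ω)))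
  have hc : ∀ (r : normalizerIn S E) (x : E), ((c r x : E) : Ω) = r * x * (r : Ω)⁻¹ := fun r x => rfl
  have hcA : ∀ r, c r ∈ autInducedBy S E := fun r =>
    (Cfsg.Agent.H802.mem_autInducedBy_iff _ _ _).2 ⟨r, r.2.1, fun x => rfl⟩
  let cΓ : normalizerIn S E →* Γ := c.codRestrict Γ (fun r => h.indu (hcA r))
  let D : Setup S E p :=
    { K := Γ ⧸ C, gK := inferInstance, fK := inferInstance, V := Additive (E ⧸ frattini E),
      aV := inferInstance, mV := inst, fV := inferInstanceAs (Finite (E ⧸ frattini E)),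
      ρ := lin p (QuotientGroup.kerLift (act Γ)), X := (H.subgroupOf Γ).map (QuotientGroup.mk' C),
      ψ := (QuotientGroup.mk' C).comp cΓ,
      π := MonoidHom.toAdditive (QuotientGroup.mk' (frattini E)),
      inj := lin_injective p (QuotientGroup.kerLift_injective (act Γ)),
      se := hSEm.quot
      ker := by
        ext r
        rw [MonoidHom.mem_ker, mem_subgroupOf]
        change (QuotientGroup.mk' C) (cΓ r) = 1 ↔ _
        rw [QuotientGroup.mk'_apply, QuotientGroup.eq_one_iff, hCI]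
        constructor
        · intro h1
          exact mem_of_inn h r.2.1 (α := c r) (fun e => hc r e) h1
        · intro h1
          refine ⟨⟨r, h1⟩, ?_⟩
          ext x
          rfl
      rg := fun r => ⟨cΓ r, mem_subgroupOf.2 (hAH (hcA r)), rfl⟩
      sur := by
        intro v
        obtain ⟨e, he⟩ := QuotientGroup.mk'_surjective (frattini E) v.toMul
        exact ⟨Additive.ofMul e, he⟩
      kerπ := fun e => QuotientGroup.eq_one_iff e
      act := by
        intro a e e' hee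
        have h1 : e' = c a e := Subtype.ext (hee.trans (hc a e).symm)
        rw [h1]
        rfl }
  have hsyl : ∀ P : Subgroup (Γ ⧸ C), IsPGroup p P → ∃ g : Γ ⧸ C, ∀ x ∈ P, ∃ a : normalizerIn S E,
      g * x * g⁻¹ = ((cΓ a : Γ) : Γ ⧸ C) := by
    intro P hP
    obtain ⟨g, hg⟩ := sylQ h P hP
    refine ⟨(g : Γ ⧸ C), fun x hx => ?_⟩
    obtain ⟨x, rfl⟩ := QuotientGroup.mk_surjective x
    obtain ⟨r, hr, hrx⟩ := mem_range_of_induced (hg x hx)
    refine ⟨⟨r, hr⟩, ?_⟩
    rw [← QuotientGroup.mk_inv, ← QuotientGroup.mk_mul, ← QuotientGroup.mk_mul]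
    congr 1
    apply Subtype.ext
    ext e
    rw [hrx e]
    rfl
  refine ⟨D, ?_, fun P hP => hsyl P hP⟩
  intro k
  obtain ⟨g, rfl⟩ := QuotientGroup.mk_surjective k
  exact ⟨g, g.2, fun e => rfl⟩

end Cfsg.Agent.H802.TE
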